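import Cfsg.Agent.OddHalf.CaseM.NIOf_m3
import Cfsg.Agent.UGT.FourA.Supply_m3
import Cfsg.Agent.UGT.I34.Final
import Cfsg.Agent.Prune
set_option linter.all false
open scoped Cfsg.Agent.FastGrp

-- merged: Cfsg.Agent.OddHalf.NI.Ex.L34NoFour
section

/-!
# (EX): `No44` from THEOREM I34 (case `4 × 4`)

* `no44_of`: `No44` from the settled kind `kind' 16 4 noT`;
* `good16_of_simple`: the settled kind from the inputs of `UGT.I34.Main.p34_of_simple`;
* `row_of`: the row `L₃(4)` of (EX).
-/

set_option autoImplicit false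

namespace Cfsg.Agent.OddHalf.NI.Ex.L34

open Subgroup Cfsg Cfsg.Agent.OddHalf.Iface Cfsg.Agent.OddHalf.LieOddFam Cfsg.Agent.OddHalf.D9.Cut
open Cfsg.Agent.SignalizersComponents
open Cfsg.Agent.OddHalf.D3 (cj Comp)
open Cfsg.Agent.UGT.I34.Pair Cfsg.Agent.UGT.I34.Red Cfsg.Agent.UGT.I34.Cov Cfsg.Agent.UGT.I34.Main

universe u

/-- a centre containing `4 × 4` has order 16 -/
theorem isCv_of {K : Type u} [Group K] [Finite K] (hq : IsQuasisimple K) (h2 : IsPGroup 2 ↥(center K))
    (hl : UGT.Iface.IsL34 (K ⧸ center K)) {a b y : K} (ha : a ∈ center K) (hb : b ∈ center K)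
    (hy : y ∈ center K) (hyy : y * y = 1) (hy1 : y ≠ 1) (h4 : a * a * (a * a) = 1) (ha1 : a * a ≠ 1)
    (hay : a * a ≠ y) (hab : b * b = a * a * y) : IsCv 16 4 K := by
  have hne : center K ≠ ⊥ := by
    intro h
    rw [h, mem_bot] at hy
    exact hy1 hy
  let a' : ↥(center K) := ⟨a, ha⟩
  let b' : ↥(center K) := ⟨b, hb⟩
  let y' : ↥(center K) := ⟨y, hy⟩
  have e1 : a' * a' * (a' * a') = 1 := Subtype.ext h4
  have e2 : a' * a' ≠ 1 := fun h => ha1 (congrArg Subtype.val h)
  have e3 : a' * a' ≠ y' := fun h => hay (congrArg Subtype.val h)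
  have e4 : b' * b' = a' * a' * y' := Subtype.ext hab
  have e5 : y' * y' = 1 := Subtype.ext hyy
  have e6 : y' ≠ 1 := fun h => hy1 (congrArg Subtype.val h)
  have hcomm : ∀ u v : ↥(center K), u * v = v * u := fun u v =>
    Subtype.ext (mem_center_iff.mp v.2 u)
  -- at least three elements of square one
  have h3 : ∀ n, ¬ IsCv n 2 K := by
    intro n h
    let f : Fin 3 → {z : ↥(center K) // z * z = 1} := ![⟨1, one_mul 1⟩, ⟨y', e5⟩, ⟨a' * a', e1⟩]
    have hf : Function.Injective f := by
      have key : ∀ i j : Fin 3, i < j → f i ≠ f j := by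
        intro i j hij he
        have he' := congrArg (fun x => (x.1 : ↥(center K))) he
        fin_cases i <;> fin_cases j <;> simp [f] at hij he' <;>
          first
          | exact e6 he'.symm
          | exact e2 he'.symm
          | exact e3 he'.symm
      intro i j he
      rcases lt_trichotomy i j with h1 | h1 | h1
      · exact absurd he (key i j h1)
      · exact h1
      · exact absurd he.symm (key j i h1)
    have h1 := Nat.card_le_card_of_injective f hf
    rw [h.om, Nat.card_fin] at h1
    omega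
  let icg : CommGroup (center K) :=
    { (inferInstance : Group (center K)) with
      mul_comm := fun a b => Subtype.ext (mem_center_iff.mp b.2 a) }
  let sq : ↥(center K) →* ↥(center K) := powMonoidHom 2
  have hsq : ∀ v, sq v = v * v := fun v => by show v ^ 2 = _; rw [pow_two]
  -- the squares `1, a², a² y`
  have h8 : ∀ n, IsCv n 4 K → 12 ≤ n := by
    intro n h
    have e7 : {z : ↥(center K) // z * z = 1} ≃ sq.ker :=
      Equiv.subtypeEquivRight fun z => by
        rw [MonoidHom.mem_ker]
        show z * z = 1 ↔ z ^ 2 = 1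
        rw [pow_two]
    have hk : Nat.card sq.ker = 4 := by rw [← Nat.card_congr e7, h.om]
    have h1 := Subgroup.card_mul_index sq.ker
    rw [Subgroup.index_ker, hk, h.card] at h1
    have h5 : 3 ≤ Nat.card sq.range := by
      let f : Fin 3 → sq.range := ![⟨1, 1, map_one _⟩, ⟨a' * a', a', hsq _⟩, ⟨b' * b', b', hsq _⟩]
      have hf : Function.Injective f := by
        have key : ∀ i j : Fin 3, i < j → f i ≠ f j := by
          intro i j hij he
          have he' := congrArg (fun x => (x.1 : ↥(center K))) he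
          have e8 : b' * b' ≠ 1 := by
            rw [e4]
            intro h9
            apply e3
            have : a' * a' * y' * y' = y' := by rw [h9, one_mul]
            rw [mul_assoc, e5, mul_one] at this
            exact this
          have e9 : a' * a' ≠ b' * b' := by
            rw [e4]
            intro h9
            exact e6 (mul_left_cancel (h9.symm.trans (mul_one _).symm))
          fin_cases i <;> fin_cases j <;> simp only [f] at hij he' <;>
            first
            | exact absurd hij (by decide)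
            | exact e2 he'.symm
            | exact e8 he'.symm
            | exact e9 he'
        intro i j he
        rcases lt_trichotomy i j with h1 | h1 | h1
        · exact absurd he (key i j h1)
        · exact h1
        · exact absurd he.symm (key j i h1)
      have h9 := Nat.card_le_card_of_injective f hf
      rwa [Nat.card_fin] at h9
    omega
  rcases UGT.I34.Cov.cases hq h2 hl hne with h | h | h | h | h
  · exact (h3 _ h).elim
  · exact (h3 _ h).elim
  · exact absurd (h8 _ h) (by norm_num)
  · exact absurd (h8 _ h) (by norm_num)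
  · exact h

/-- **`No44` from THEOREM I34 for `4 × 4`.** -/
theorem no44_of (hg : Good.{u} (kind' 16 4 noT)) : No44.{u} := by
  intro G _ C y N hy hN hyN hX ⟨a, b, ha, hb, h4, ha1, hay, hab⟩
  have := C.fin
  have := C.simple
  have hc : CompOf y N := ⟨hN.le, hN.comp⟩
  have hq : IsQuasisimple ↥N := Soft.CompOf.quasisimple hc
  have h2 : IsPGroup 2 ↥(center ↥N) := Soft.CompOf.center_isPGroup (C.bal y hy) hc
  have hO := RankOne.oddCore_of_compOf (C.bal y hy) hc
  have e : ↥N ⧸ oddCore ↥N ≃* ↥N := (QuotientGroup.quotientMulEquivOfEq hO).trans QuotientGroup.quotientBot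
  have hyy : y * y = 1 := by rw [← pow_two, ← hy, pow_orderOf_eq_one]
  have hy1 : y ≠ 1 := by rintro rfl; rw [orderOf_one] at hy; omega
  have hyc : (⟨y, hyN⟩ : ↥N) ∈ center ↥N := by
    rw [mem_center_iff]
    intro g
    exact Subtype.ext (mem_centralizer_singleton_iff.mp (hN.le g.2))
  have hl : UGT.Iface.IsL34 (↥N ⧸ center ↥N) := hX
  have hcv : IsCv 16 4 ↥N := isCv_of hq h2 hl ha hb hyc (Subtype.ext hyy)
    (fun h => hy1 (congrArg Subtype.val h)) h4 ha1 (fun h => hay (congrArg Subtype.val h)) (Subtype.ext hab)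
  have hev : 2 ∣ Nat.card ↥(N.subgroupOf (centralizer ({y} : Set G))) := by
    rw [Nat.card_congr (subgroupOfEquivOfLe hN.le).toEquiv, ← hy]
    have h5 := _root_.orderOf_dvd_natCard (⟨y, hyN⟩ : ↥N)
    rwa [Subgroup.orderOf_mk] at h5
  have hfact : Fact (Nat.Prime 2) := ⟨Nat.prime_two⟩
  have hp : IsPair (kind' 16 4 noT) y N :=
    ⟨hy, hyN, ⟨hN.le, SignalizersComponents.EvenComponent.isPComponent_of_isComponent hN.comp hev⟩,
      ⟨hcv.congr e.symm, trivial⟩⟩
  have hs : IsSimpleGroup ↥(⊤ : Subgroup G) := by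
    have hnt : Nontrivial ↥(⊤ : Subgroup G) := (Subgroup.topEquiv (G := G)).toEquiv.nontrivial
    exact IsSimpleGroup.isSimpleGroup_of_surjective (Subgroup.topEquiv (G := G)).symm.toMonoidHom
      (Subgroup.topEquiv (G := G)).symm.surjective
  refine false_of_good hg (fun _ _ _ _ h => h) (F := ⊤) hs ?_ hp le_top
  intro h
  apply C.na
  exact ⟨⟨fun u v => congrArg Subtype.val (h.1.1 ⟨u, mem_top u⟩ ⟨v, mem_top v⟩)⟩⟩

/-- the kind `4 × 4` from the inputs of `p34_of` -/
theorem good16_of_simple {T22 : (X : Type u) → [Group X] → X → Subgroup X → Prop}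
    (h2 : SimpleCase.{u} (kind' 2 2 noT)) (h4 : ∀ N, Settled'.{u} N 4 2)
    (h22 : ∀ N, SimpleBelow.{u} (kind' 4 4 T22) N) (hT22 : GoodT.{u} T22)
    (h8 : SimpleCase.{u} (kind' 8 4 noT)) (h16 : SimpleCase.{u} (kind' 16 4 noT)) :
    Good.{u} (kind' 16 4 noT) := by
  refine Good.of_n fun N => ?_
  have g4 : Settled.{u} N 4 := by
    intro K _ _ m hK _ hm
    rcases hm rfl with rfl | rfl
    · obtain ⟨κ, h1, h2, -⟩ := h4 N K hK
      exact ⟨κ, h1, h2⟩
    · exact ⟨_, goodN_of (h22 N) (subKinds_of_settled (k := 2) (by norm_num) (by norm_num)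
        (settled_two (settled_of_simple h2 goodT_noT))) hT22.nodbl, hK, trivial⟩
  have g8 : Settled.{u} N 8 := by
    intro K _ _ m hK _ _
    obtain rfl := om_eight hK
    exact ⟨_, goodN_of (h8.below N) (subKinds_of_settled (k := 3) (by norm_num) (by norm_num) g4)
      fun _ _ _ _ h => h.elim, hK, trivial⟩
  exact goodN_of (h16.below N) (subKinds_of_settled (k := 4) (by norm_num) (by norm_num) g8) fun _ _ _ _ h => h.elim

/-- **The row `L₃(4)` of (EX) from THEOREM I34.** -/
theorem row_of (hg : Good.{u} (kind' 16 4 noT)) : GRow.{u} (fun X _ => XL34 X) := row (no44_of hg)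

end Cfsg.Agent.OddHalf.NI.Ex.L34

end

-- merged: Cfsg.Agent.OddHalf.Top.No44
section

/-!
# S1765: `No44` (node NI, (EX), `L₃(4)`) from THEOREM I34 and S1311
-/

set_option autoImplicit false

namespace Cfsg.Agent.OddHalf.Top.No44

open Cfsg Cfsg.Agent.UGT.I34.Red Cfsg.Agent.UGT.I34.Cov Cfsg.Agent.UGT.I34

universe u

/-- the kind `4 × 4` is settled -/
theorem good16 (hU : ∀ (G : Type u) [Group G] [Finite G], FixBN.BTheorem.UGT G) : Good.{u} (kind' 16 4 noT) :=
  NI.Ex.L34.good16_of_simple Final.two OneEnd.settled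
    (fun _ => FourFrame.below_of_B FixBN.KnownAll.known (FourWOneA.simpleCaseB Final.two) fun G _ _ _ => hU G)
    FourMain.goodT Non.simpleCase_8' Non.simpleCase_16'

/-- **`No44`** -/
theorem no44 (hU : ∀ (G : Type u) [Group G] [Finite G], FixBN.BTheorem.UGT G) : NI.Ex.L34.No44.{u} :=
  NI.Ex.L34.no44_of (good16 hU)

end Cfsg.Agent.OddHalf.Top.No44

end
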